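import Cfsg.Agent.H13.M22.Elts
import Cfsg.Agent.H13.M22.Frob7
import Cfsg.Agent.H915.LD
import Cfsg.Agent.H875.DefCov

/-!
# `M22` in odd characteristic: dimension at least seven (helper913)

From helper13's `frob7` (`2³:7`).
-/

set_option autoImplicit false
set_option linter.unusedSectionVars false

namespace Cfsg.Agent.H913.S6

open Cfsg Cfsg.Geo Matrix Module
open H915.LD (Core Soc toSoc)

universe u

variable {ι : Type} [Fintype ι] [DecidableEq ι] {F : Type u} [Field F] {P : Subgroup (GL ι F)}

/-- the representation over the algebraic closure -/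
noncomputable def rp (P : Subgroup (GL ι F)) : P →* Module.End (AlgebraicClosure F) (ι → AlgebraicClosure F) :=
  ((Matrix.toLinAlgEquiv' : Matrix ι ι (AlgebraicClosure F) ≃ₐ[AlgebraicClosure F] _).toAlgHom.toRingHom.toMonoidHom.comp
    (RingHom.mapMatrix (algebraMap F (AlgebraicClosure F))).toMonoidHom).comp
      ((Units.coeHom (Matrix ι ι F)).comp P.subtype)

theorem rp_apply (g : P) : rp P g = Matrix.toLin' (((g : GL ι F) : Matrix ι ι F).map (algebraMap F (AlgebraicClosure F))) :=
  rfl

theorem rp_injective : Function.Injective (rp P) := by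
  intro a b h
  rw [rp_apply, rp_apply] at h
  have h1 := Matrix.toLin'.injective h
  apply Subtype.ext
  apply Units.ext
  ext i j
  have h2 := congrFun (congrFun h1 i) j
  rw [Matrix.map_apply, Matrix.map_apply] at h2
  exact (algebraMap F (AlgebraicClosure F)).injective h2

variable [Finite F]

/-- the covering data of a core -/
theorem cov_of_core {T : Type*} [Group T] (_hC : Core P) (e : Soc P ≃* T) :
    H13.M22.Cov (e.toMonoidHom.comp (toSoc P)) (rp P) where
  surj := e.surjective.comp (H915.LD.toSoc_surjective P)
  cen := by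
    rw [H915.LD.ker_comp e]
    exact H915.LD.scalars_le_center
  scal := by
    intro z hz
    rw [H915.LD.ker_comp e, Subgroup.mem_subgroupOf, mem_scalars_iff] at hz
    obtain ⟨c, hc⟩ := hz
    refine ⟨algebraMap F (AlgebraicClosure F) c, ?_⟩
    rw [rp_apply, hc]
    ext i j
    simp only [Matrix.one_apply, Pi.single_apply, Matrix.toLin'_apply, LinearMap.coe_comp, LinearMap.coe_single,
      Function.comp_apply, Matrix.mulVec_single, MulOpposite.op_one, one_smul, Matrix.col_apply, Matrix.map_apply,
      Matrix.smul_apply, smul_eq_mul, mul_ite, mul_one, mul_zero, LinearMap.smul_apply, Module.End.one_apply,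
      Pi.smul_apply]
    by_cases h : i = j
    · subst h; simp
    · simp [Ne.symm h]
  inj := rp_injective
  card := by
    obtain ⟨p, hp⟩ := CharP.exists F
    have hpp : Fact p.Prime := ⟨CharP.char_is_prime F p⟩
    rw [H915.LD.ker_comp e]
    intro h
    have h1 : CharP (AlgebraicClosure F) p := charP_of_injective_algebraMap (algebraMap F _).injective p
    rw [CharP.cast_eq_zero_iff (AlgebraicClosure F) p] at h
    have h2 := H875.DefCov.card_scalars_coprime (P := P) p
    exact hpp.out.one_lt.ne' (Nat.eq_one_of_dvd_coprimes h2 h (dvd_refl p))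

/-- **`M22`, odd characteristic.** -/
theorem m22_ge (hC : Core P) (e : Soc P ≃* Spor.M22) (h2 : (2 : F) ≠ 0) (hn : Fintype.card ι ≤ 13) :
    7 ≤ Fintype.card ι := by
  have hfin : Finite P := inferInstance
  have h := cov_of_core hC e
  obtain ⟨g, hg⟩ := h.surj (H13.M22.em H13.M22.x0P)
  obtain ⟨k, hk⟩ := h.surj (H13.M22.em H13.M22.sP)
  have h2' : (2 : AlgebraicClosure F) ≠ 0 := by
    intro h0
    apply h2
    apply (algebraMap F (AlgebraicClosure F)).injective
    rw [map_ofNat, h0, map_zero]
  have h3 := (H13.M22.frob7 h h2' H13.M22.fr7 hg hk (by rwa [Module.finrank_fintype_fun_eq_card])).1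
  rwa [Module.finrank_fintype_fun_eq_card] at h3

end Cfsg.Agent.H913.S6
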