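import Cfsg.Agent.H918.Six.Asm
import Cfsg.Agent.H918.U43.Main
import Cfsg.Agent.H936.List12c
import Cfsg.Agent.H937.G24.Row
import Cfsg.Agent.H918.Six.M12All
import Cfsg.Agent.H921.M22.Two
import Cfsg.Agent.H921.SporJ3
import Cfsg.Agent.H921.SporSuz
import Cfsg.Agent.H913.S6.M22
import Cfsg.Agent.H937.T2Rep
import Cfsg.Agent.H614.AMod.Main
import Cfsg.Agent.H464.L2Table
import Cfsg.Agent.H659.U3Stage
import Cfsg.Agent.H936.U33Two
import Cfsg.Agent.H659.Sp4Stage
import Cfsg.Agent.H906.T14SixF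
import Cfsg.Agent.H906.T14SixZ
import Cfsg.Agent.H916.SpSixK
import Cfsg.Agent.H916.OmD
import Cfsg.Agent.H6.M11.Main11
import Cfsg.Agent.H4.LDM.Stage24
import Cfsg.Agent.H1.TJ1
import Cfsg.Agent.H1.TJ2
import Cfsg.Agent.H878.Sz.MainThree
import Cfsg.Agent.H219.HerSmall

/-!
# Dimension six: the simple groups that are not of Lie type in the characteristic (helper913)

`cross6` : `Core P`, `Soc P` known, not of Lie type in characteristic `p`: `OutX p P`.
-/

set_option autoImplicit false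
set_option linter.unusedSectionVars false
set_option linter.style.haveILetI false

namespace Cfsg.Agent.H913.S6

open Cfsg Cfsg.Geo Matrix
open H915.LD (Core Soc tr SD Fr Cj)
open H918.Six (Out6 IsL34 IsU43 nsc)
open H912.Bd (IsL IsU IsS IsOP)

universe u

variable {F : Type u} [Field F] [Fintype F] {P : Subgroup (GL (Fin 6) F)}

/-- The cores of degree six, cross characteristic; `A₆` and `A₇` without further facts. -/
def OutX (p : ℕ) (P : Subgroup (GL (Fin 6) F)) : Prop :=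
  Nonempty (Soc P ≃* alternatingGroup (Fin 7)) ∨ Nonempty (Soc P ≃* alternatingGroup (Fin 6)) ∨ Out6 p P

section

variable (p : ℕ) [hp : Fact p.Prime] [hFp : CharP F p]

include hFp hp in
theorem cast_ne0 {r : ℕ} (hr : r.Prime) (h : p ≠ r) : (r : F) ≠ 0 := by
  intro h0
  rw [CharP.cast_eq_zero_iff F p] at h0
  exact h ((Nat.prime_dvd_prime_iff_eq hp.out hr).1 h0)

include hFp hp in
theorem two_ne0 (h : p ≠ 2) : (2 : F) ≠ 0 := by exact_mod_cast cast_ne0 (F := F) p Nat.prime_two h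

theorem zero_or_one {K : Type*} [Field K] [Fintype K] (hK : Fintype.card K = 2) (x : K) : x = 0 ∨ x = 1 := by
  by_cases hx : x = 0
  · exact Or.inl hx
  · right
    have h3 := FiniteField.pow_card_sub_one_eq_one x hx
    rwa [hK, pow_one] at h3

/-- `L_2(q)`, `q = 7, 11, 13` -/
theorem l2_row (hC : Core P) {q : ℕ} (hq : q ∈ ({7, 8, 11, 13, 17, 19, 23, 25} : Finset ℕ)) (hpq : ¬ p ∣ q)
    (h : IsL 2 q (Soc P)) : Out6 p P := by
  obtain ⟨K, iF, iT, hK, ⟨e⟩⟩ := h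
  have h5 : 5 ≤ Fintype.card K := by
    rw [hK]; simp only [Finset.mem_insert, Finset.mem_singleton] at hq; omega
  have h9 : Fintype.card K ≠ 9 := by
    rw [hK]; simp only [Finset.mem_insert, Finset.mem_singleton] at hq; omega
  have hpK : ¬ p ∣ Fintype.card K := by rwa [hK]
  rcases H464.Sl2.l2_stage1_le p hC h5 h9 hpK e (by simp) with h | ⟨h, h3, h4⟩
  · exact Or.inl h
  · rw [Fintype.card_fin] at h
    have h11 : Fintype.card K = 11 := by omega
    rw [h11] at h3 h4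
    have hp2 := ((H464.Sl2.l2_half p hC h5 h9 hpK e (Or.inr (by rw [Fintype.card_fin, h11]))).1
      (by rw [Fintype.card_fin, h11])).1
    have hp11 : p ≠ 11 := by
      rintro rfl
      rw [h11] at hpK
      exact hpK (dvd_refl 11)
    exact Or.inr (Or.inl ⟨H912.Five.psl_zmod (by norm_num) ⟨K, iF, iT, h11, ⟨e⟩⟩, hp2, hp11, h3, h4⟩)

/-- `L_3(4)` -/
theorem l34_row (hC : Core P) (hp2 : p ≠ 2) (h : IsL 3 4 (Soc P)) : Out6 p P := by
  obtain ⟨K, iF, iT, hK, ⟨e⟩⟩ := h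
  obtain ⟨h1, h2, h3⟩ := H906.T14.l34_six p hC hp2 hK (by simp) e
  by_cases hp3 : p = 3
  · exact Or.inl (h3 hp3).1
  · have h6 := (H906.T14.six_center p hC hp2 hK (by simp) e).1 hp3
    exact Or.inr (Or.inr (Or.inr (Or.inr (Or.inr (Or.inl ⟨⟨K, iF, iT, hK, ⟨e⟩⟩, h6, hp2, hp3, h1, h2⟩)))))

/-- `U_4(3)` -/
theorem u43_row (hC : Core P) (hp3 : p ≠ 3) (h : IsU 4 3 (Soc P)) : Out6 p P := by
  obtain ⟨K, iF, iT, hK, ⟨e⟩⟩ := h
  have hK9 : Fintype.card K = 9 := by rw [hK]; norm_num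
  obtain ⟨-, h1, h2⟩ := H918.U43.u43_core hC p hp3 hK9 e (by simp)
  exact Or.inr (Or.inr (Or.inr (Or.inr (Or.inr (Or.inr (Or.inr (Or.inr (Or.inl
    ⟨⟨K, iF, iT, hK9, ⟨e⟩⟩, hp3, h1, h2⟩))))))))

/-- `U_4(2)` -/
theorem u42_row (hC : Core P) (hp2 : p ≠ 2) (hp3 : p ≠ 3) (h : IsU 4 2 (Soc P)) : SD P := by
  obtain ⟨K, iF, iT, hK, ⟨e⟩⟩ := h
  rcases H659.Sp4.u42_stage' hC p hp2 hp3 (by simp) (by rw [hK]; norm_num) e with h | ⟨h, -⟩ | ⟨-, -, h, -⟩
  · simp at h
  · simp at h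
  · exact h

/-- `U_3(3)` -/
theorem u33_row (hC : Core P) (hp3 : p ≠ 3) (h : IsU 3 3 (Soc P)) : SD P := by
  obtain ⟨K, iF, iT, hK, ⟨e⟩⟩ := h
  have hK9 : Fintype.card K = 9 := by rw [hK]; norm_num
  by_cases hp2 : p = 2
  · subst hp2
    exact (H936.U33Two.u33_two hC hK9 ⟨e⟩ (by simp)).2.1
  · rcases (H659.U3.u33_stage hC p hp2 hp3 (by simp) hK9 e).2 with ⟨-, h, -⟩ | ⟨h, -⟩
    · exact h
    · simp at h

/-- `Sp_6(2)`, `Ω_8^+(2)` -/
theorem s62_row (hC : Core P) (hp2 : p ≠ 2) (h : IsS 3 2 (Soc P) ∨ IsOP 4 2 (Soc P)) : False := by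
  rcases h with ⟨K, iF, iT, hK, ⟨e⟩⟩ | ⟨K, iF, iT, hK, ⟨e⟩⟩
  · have := H916.SpSix.spSix_dim (zero_or_one hK) hC e (two_ne0 p hp2) (by simp)
    simp at this
  · have := H916.Om.omega_dim (zero_or_one hK) hC e (two_ne0 p hp2) (by simp)
    simp at this

include hFp hp in
/-- `J_3` -/
theorem j3_row (hC : Core P) (h : Cfsg.Spor.IsoJ3 (Soc P)) : False := by
  obtain ⟨K, _, _, ω, hF, hω, ⟨e⟩⟩ := h
  have H := Cfsg.Agent.J3.Core.good_of_card hF hω
  by_cases h19 : p = 19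
  · have h17 : Nat.Prime 17 := by norm_num
    have := (((H921.Spor.J3.J3_seventeen hF H).orb h17).bd h17 (cast_ne0 (F := F) p h17 (by omega))) 6
      (H912.Bd.PR.of_perfect P hC.perfect h17 (by norm_num) e)
    omega
  · have hp19 : Nat.Prime 19 := by norm_num
    have := (((H921.Spor.J3.J3_nineteen hF H).orb hp19).bd hp19 (cast_ne0 (F := F) p hp19 h19)) 6
      (H912.Bd.PR.of_perfect P hC.perfect hp19 (by norm_num) e)
    omega

include hFp hp in
/-- `Suz` -/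
theorem suz_row (hC : Core P) (h : Cfsg.Spor.IsoSuz (Soc P)) : False := by
  obtain ⟨e⟩ := h
  by_cases hp3 : p = 3
  · have h11 : Nat.Prime 11 := by norm_num
    have := ((H921.Spor.Suz.Suz_eleven.orb h11).bd h11 (cast_ne0 (F := F) p h11 (by omega))) 6
      (H912.Bd.PR.of_perfect P hC.perfect h11 (by norm_num) e)
    omega
  · have := (H878.Sz.core_Suz hC e (by simp) p hp3).1
    simp at this

/-- the sporadic groups -/
theorem spor_row (hC : Core P) (h : H936.List12.SporC (Soc P)) : Out6 p P := by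
  rcases h with h | h | h | h | h | h | h | h | h
  · rcases H6.M11.m11 hC p h (by simp) with h1 | ⟨h1, -⟩ | ⟨h1, -⟩
    · exact Or.inl h1
    · simp at h1
    · simp at h1
  · rcases H918.Six.M12.m12_six hC p h (by simp) with h1 | ⟨h1, h2⟩
    · exact Or.inl h1
    · exact Or.inr (Or.inr (Or.inr (Or.inr (Or.inr (Or.inr (Or.inl ⟨h, h1, h2⟩))))))
  · have h' := h
    obtain ⟨e⟩ := h
    by_cases hp2 : p = 2
    · subst hp2
      rcases H921.M22.two e hC (by simp) with ⟨-, h1⟩ | ⟨h1, -⟩ | ⟨h1, -⟩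
      · exact Or.inr (Or.inr (Or.inr (Or.inr (Or.inr (Or.inr (Or.inr (Or.inl ⟨h', rfl, h1⟩)))))))
      · simp at h1
      · simp at h1
    · have := m22_ge hC e (two_ne0 p hp2) (by simp)
      simp at this
  · obtain ⟨e⟩ := h
    have := (H4.LDM.Stage.m23_low hC e p (by simp)).2.1
    simp at this
  · obtain ⟨e⟩ := h
    have := (H4.LDM.Stage.m24_low hC e p (by simp)).2.1
    simp at this
  · exact Or.inl (H1.TJ1.sd_iso hC h)
  · exact Or.inl (H1.TJ2.sd_iso hC h (by simp))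
  · exact (j3_row p hC h).elim
  · exact (suz_row p hC h).elim

include hFp hp in
/-- **Cross characteristic.** -/
theorem cross6 (hC : Core P) (hk : IsKnownSimple' (Soc P)) (hL : ¬ IsLieTypeChar p (Soc P)) : OutX p P := by
  rcases H936.List12.list₂ (p := p) (n := 6) (by norm_num) hC hk hL with h | h | h | h | h
  · obtain ⟨m, h5, h14, -, -, -, ⟨e⟩⟩ := h
    have hm : m = 5 ∨ m = 6 ∨ m = 7 ∨ 8 ≤ m := by omega
    rcases hm with rfl | rfl | rfl | hm
    · exact Or.inr (Or.inr (Or.inl (H937.T2.a5_sd hC e)))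
    · exact Or.inr (Or.inl ⟨e⟩)
    · exact Or.inl ⟨e⟩
    · right; right; left
      refine (H614.AMod.Main.alt_sd_fr hC p e hm (by simp) ?_).1
      rintro ⟨rfl, rfl⟩
      exact hL (H219.HerSmall.lie_alt8 e)
  · right; right
    rcases h with ⟨q, hq, hpq, -, h⟩ | ⟨-, h1, -⟩ | ⟨h1, -, h⟩ | ⟨-, h1, -⟩ | ⟨h1, h2, -, h⟩ | ⟨-, h1, -⟩ |
      ⟨-, h1, -⟩ | ⟨-, h1, -⟩ | ⟨-, h1, -⟩
    · exact l2_row p hC hq hpq h
    · omega
    · exact Or.inl (u33_row p hC h1 h)
    · omega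
    · exact Or.inl (u42_row p hC h1 h2 h)
    · omega
    · omega
    · omega
    · omega
  · right; right
    rcases h with ⟨h1, -, h | h | ⟨h3, h⟩ | h | h | h⟩ | ⟨h1, -, h⟩
    · have hp7 : ¬ p ∣ 7 := by
        intro h7
        have := (Nat.prime_dvd_prime_iff_eq hp.out (by norm_num)).1 h7
        subst this
        exact hL (H936.List12.lie_of_isL hp.out (dvd_refl 7) le_rfl (by norm_num) h)
      exact l2_row p hC (by decide) hp7 h
    · exact l34_row p hC h1 h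
    · exact Or.inl (u42_row p hC h1 h3 h)
    · exact (s62_row p hC h1 (Or.inl h)).elim
    · exact (s62_row p hC h1 (Or.inr h)).elim
    · obtain ⟨K, i1, i2, hK, ⟨e⟩⟩ := h
      have := H937.G24.core_ge hK (two_ne0 p h1) e
      simp at this
    · exact u43_row p hC h1 h
  · omega
  · exact Or.inr (Or.inr (spor_row p hC h))

end

end Cfsg.Agent.H913.S6
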