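import Cfsg.Agent.H918.Six.Row
import Cfsg.Agent.H876.D3.Main5
import Cfsg.Agent.H913.S6.Cross

/-!
# Dimension six: the two rows, given the classification as a hypothesis (helper913)
-/

set_option autoImplicit false
set_option linter.unusedSectionVars false
set_option linter.style.haveILetI false

namespace Cfsg.Agent.H913.S6

open Cfsg Cfsg.Geo Matrix
open H915.LD (Core Soc tr SD Fr Cj)
open H918.Six (Out6 Out6x IsL34 IsU43 nsc)

universe u

variable {F : Type u} [Field F] [Fintype F]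

/-- the list in cross characteristic -/
theorem list6 (hk : ∀ (T : Type u) [Group T] [Finite T] [IsSimpleGroup T], IsKnownSimple' T) (p : ℕ)
    (hp : Fact p.Prime) (hFp : CharP F p) (P : Subgroup (GL (Fin 6) F)) (hC : Core P)
    (hL : ¬ IsLieTypeChar p (Soc P)) : Out6x p P := by
  have := hC.simple
  exact cross6 p hC (hk _) hL

/-- `PSU_4`, `PSU_5` in their own characteristic -/
theorem psu45 (p : ℕ) (hp : Fact p.Prime) (hFp : CharP F p) (P : Subgroup (GL (Fin 6) F)) (hC : Core P)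
    (K : Type) (i1 : Field K) (i2 : Fintype K) (i3 : CharP K p) (N q : ℕ) (hK : Fintype.card K = q ^ 2)
    (hN : N = 4 ∨ N = 5) (e : Soc P ≃* PSU N K q) : SD P := by
  rcases H876.D3.core_psu p K (by omega) (by simp) hK hC e with h | ⟨-, -, h⟩ | ⟨-, h, -⟩ | ⟨-, h⟩
  · rw [Fintype.card_fin] at h
    omega
  · exact h
  · rw [Fintype.card_fin] at h
    omega
  · rw [Fintype.card_fin] at h
    omega

/-- **The linear row**, `S5800`. -/
theorem final5800 (hk : ∀ (T : Type u) [Group T] [Finite T] [IsSimpleGroup T], IsKnownSimple' T)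
    (H : Subgroup (GL (Fin 6) F)) (hH : IsMaximalIn (specialLinear (Fin 6) F) H) (hS : InLinearResidualClass H) :
    ∃ (P : Subgroup (GL (Fin 6) F)) (p : ℕ), IsResidualCore H P ∧ p.Prime ∧ CharP F p ∧
    ((Nonempty (Soc P ≃* ProjectiveSpecialLinearGroup (Fin 2) (ZMod 11)) ∧ Fintype.card F = p ∧ p ≠ 3 ∧
        (p % 11 = 1 ∨ p % 11 = 3 ∨ p % 11 = 4 ∨ p % 11 = 5 ∨ p % 11 = 9)) ∨
     (Nonempty (Soc P ≃* alternatingGroup (Fin 7)) ∧ ((Fintype.card F = p ∧ (p % 24 = 1 ∨ p % 24 = 7)) ∨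
        (Fintype.card F = p ^ 2 ∧ (p % 24 = 5 ∨ p % 24 = 11 ∨ p % 24 = 13 ∨ p % 24 = 19)))) ∨
     (IsL34 (Soc P) ∧ Fintype.card F = p ∧ (p % 24 = 1 ∨ p % 24 = 19)) ∨
     (Cfsg.Spor.IsoM12 (Soc P) ∧ Fintype.card F = 3) ∨
     (IsU43 (Soc P) ∧ Fintype.card F = p ∧ (p % 12 = 1 ∨ p % 12 = 7)) ∨
     (Nonempty (Soc P ≃* Matrix.ProjectiveSpecialLinearGroup (Fin 3) F) ∧ Odd (Fintype.card F))) :=
  H918.Six.row5800 hH hS (list6 hk)

/-- **The unitary row**, `S5803`. -/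
theorem final5803 (hk : ∀ (T : Type u) [Group T] [Finite T] [IsSimpleGroup T], IsKnownSimple' T)
    (q : ℕ) (hF : Fintype.card F = q ^ 2) (H : Subgroup (GL (Fin 6) F))
    (hH : IsMaximalIn (GU 6 F q ⊓ specialLinear (Fin 6) F) H) (hS : InUnitaryResidualClass H) :
    ∃ P : Subgroup (GL (Fin 6) F), IsResidualCore H P ∧
    ((Nonempty (Soc P ≃* ProjectiveSpecialLinearGroup (Fin 2) (ZMod 11)) ∧ q.Prime ∧ q ≠ 2 ∧
        (q % 11 = 2 ∨ q % 11 = 6 ∨ q % 11 = 7 ∨ q % 11 = 8 ∨ q % 11 = 10)) ∨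
     (Nonempty (Soc P ≃* alternatingGroup (Fin 7)) ∧ q.Prime ∧ (q % 24 = 17 ∨ q % 24 = 23)) ∨
     (IsL34 (Soc P) ∧ q.Prime ∧ (q % 24 = 5 ∨ q % 24 = 23)) ∨
     (Cfsg.Spor.IsoM22 (Soc P) ∧ q = 2) ∨
     (IsU43 (Soc P) ∧ (q = 2 ∨ (q.Prime ∧ (q % 12 = 5 ∨ q % 12 = 11)))) ∨
     (Nonempty (Soc P ≃* Cfsg.PSU 3 F q) ∧ Odd q)) :=
  H918.Six.row5803 hF hH hS (list6 hk) (fun p hp hFp P hC => psu45 p hp hFp P hC)

end Cfsg.Agent.H913.S6
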